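import Groth.Agent.CplBC.Sections
import Groth.Agent.RelSpecLib.Basic
import Groth.Agent.SymLib.Affine
import Groth.Agent.Props.GenLocus
import Groth.Agent.S8255

/-! Integrality and normality of relative spectra. -/

noncomputable section

universe u

open CategoryTheory CategoryTheory.Limits AlgebraicGeometry TopologicalSpace Opposite
open RelSpec

namespace Groth.Agent.DirImgInt65

/-- A relative spectrum with domain charts that meet densely is integral. -/
theorem isIntegral_spec {S : Scheme.{u}} (A : QCAlg S) (P : S.Opens → Prop)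
    (hcov : ∀ z : A.spec, ∃ (U : S.Opens) (hU : IsAffineOpen U), P U ∧ A.π z ∈ U)
    (hdom : ∀ U, IsAffineOpen U → P U → IsDomain (A.presheaf.obj (op U) : Type u))
    (hmeet : ∀ U U', IsAffineOpen U → IsAffineOpen U' → P U → P U' → ∃ W, IsAffineOpen W ∧ P W ∧
      ∃ (h : W ≤ U) (h' : W ≤ U'), Function.Injective (A.presheaf.map (homOfLE h).op).hom ∧
        Function.Injective (A.presheaf.map (homOfLE h').op).hom)
    (hne : ∃ U, IsAffineOpen U ∧ P U) : IsIntegral A.spec := by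
  let J := {U : S.Opens // IsAffineOpen U ∧ P U}
  have hd : ∀ W : J, IsDomain (A.presheaf.obj (op W.1) : Type u) := fun W => hdom _ W.2.1 W.2.2
  let η : J → A.spec := fun W => A.ι W.1 W.2.1
    (⟨⊥, by have := hd W; exact Ideal.isPrime_bot⟩ : PrimeSpectrum (A.presheaf.obj (op W.1) : Type u))
  have hle : ∀ (W W' : J) (h : W'.1 ≤ W.1), Function.Injective (A.presheaf.map (homOfLE h).op).hom → η W' = η W := by
    intro W W' h hinj
    have := hd W'
    refine (congr($(RelSpecLib.map_res_ι A W.2.1 W'.2.1 h)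
      (⟨⊥, Ideal.isPrime_bot⟩ : PrimeSpectrum (A.presheaf.obj (op W'.1) : Type u)))).symm.trans ?_
    refine congrArg (A.ι W.1 W.2.1) (PrimeSpectrum.ext ?_)
    exact Ideal.comap_bot_of_injective _ hinj
  have hall : ∀ W W' : J, η W = η W' := by
    intro W W'
    obtain ⟨W'', hW'', hP, h, h', hi, hi'⟩ := hmeet _ _ W.2.1 W'.2.1 W.2.2 W'.2.2
    exact (hle W ⟨W'', hW'', hP⟩ h hi).symm.trans (hle W' ⟨W'', hW'', hP⟩ h' hi')
  have hcov' : ∀ z : A.spec, ∃ (W : J) (Q : Spec (A.presheaf.obj (op W.1))), A.ι W.1 W.2.1 Q = z := by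
    intro z
    obtain ⟨U, hU, hP, hz⟩ := hcov z
    obtain ⟨Q, hQ⟩ := RelSpecLib.exists_ι_apply_eq A z U hU hz
    exact ⟨⟨U, hU, hP⟩, Q, hQ⟩
  obtain ⟨U₀, hU₀, hP₀⟩ := hne
  let W₀ : J := ⟨U₀, hU₀, hP₀⟩
  have hgen : ∀ (O : A.spec.Opens), (O : Set A.spec).Nonempty → η W₀ ∈ O := by
    rintro O ⟨z, hz⟩
    obtain ⟨W', Q, rfl⟩ := hcov' z
    rw [hall W₀ W']
    have := hd W'
    exact ((PrimeSpectrum.le_iff_specializes _ Q).1 (bot_le (a := Q.asIdeal))).map
      (A.ι W'.1 W'.2.1).continuous |>.mem_open O.2 hz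
  have : IrreducibleSpace A.spec :=
    { isPreirreducible_univ := fun u v hu hv ⟨a, _, ha⟩ ⟨b, _, hb⟩ =>
        ⟨η W₀, trivial, hgen ⟨u, hu⟩ ⟨a, ha⟩, hgen ⟨v, hv⟩ ⟨b, hb⟩⟩
      toNonempty := ⟨η W₀⟩ }
  have : IsReduced A.spec := by
    let 𝒰 : A.spec.OpenCover := Scheme.Cover.mkOfCovers J (fun W => Spec (A.presheaf.obj (op W.1)))
      (fun W => A.ι W.1 W.2.1) hcov'
    apply +allowSynthFailures @IsReduced.of_openCover (𝒰 := 𝒰)
    intro W
    have := hd W
    exact inferInstanceAs (IsReduced (Spec (A.presheaf.obj (op W.1))))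
  exact isIntegral_of_irreducibleSpace_of_isReduced _

/-- A relative spectrum of normal rings is normal. -/
theorem isNormal_spec {S : Scheme.{u}} (A : QCAlg S)
    (h : ∀ z : A.spec, ∃ (U : S.Opens) (_ : IsAffineOpen U), A.π z ∈ U ∧
      EGA4.IsNormalRing (A.presheaf.obj (op U) : Type u)) : Pi1.IsNormalScheme A.spec := by
  intro z
  obtain ⟨U, hU, hzU, hn⟩ := h z
  obtain ⟨Q, rfl⟩ := RelSpecLib.exists_ι_apply_eq A z U hU hzU
  let e := (asIso ((A.ι U hU).stalkMap Q)).commRingCatIsoToRingEquiv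
  let e' := (StructureSheaf.stalkIso (A.presheaf.obj (op U) : Type u) (Q : PrimeSpectrum _)).toRingEquiv
  obtain ⟨h1, h2⟩ := hn (Q : PrimeSpectrum (A.presheaf.obj (op U) : Type u)).asIdeal
  have h3 : IsDomain ((Spec (A.presheaf.obj (op U))).presheaf.stalk Q) := e'.symm.toMulEquiv.isDomain _
  have h4 : IsIntegrallyClosed ((Spec (A.presheaf.obj (op U))).presheaf.stalk Q) := IsIntegrallyClosed.of_equiv e'
  exact ⟨e.toMulEquiv.isDomain, IsIntegrallyClosed.of_equiv e.symm⟩

/-- Functions on a quasi-compact, normal, locally integral scheme form a normal ring. -/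
theorem isNormalRing_sections (Y : Scheme.{u}) [CompactSpace Y]
    (hint : ∀ y : Y, ∃ U : Y.Opens, y ∈ U ∧ IsIntegral (U : Scheme.{u})) (hY : Pi1.IsNormalScheme Y) :
    EGA4.IsNormalRing Γ(Y, ⊤) := by
  have hdom : ∀ y : Y, IsDomain (Y.presheaf.stalk y) := fun y => (hY y).1
  choose U hyU hU using hint
  obtain ⟨t, ht⟩ := isCompact_univ.elim_finite_subcover (fun y => (U y : Set Y)) (fun y => (U y).2)
    fun y _ => Set.mem_iUnion.2 ⟨y, hyU y⟩
  have hfin : (irreducibleComponents (Y : Type u)).Finite := by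
    refine (t.finite_toSet.image fun y => closure (U y : Set Y)).subset fun Z hZ => ?_
    obtain ⟨z, hz⟩ := hZ.1.nonempty
    obtain ⟨i, hi, hzi⟩ := Set.mem_iUnion₂.1 (ht (Set.mem_univ z))
    have := hU i
    have hirr : IsIrreducible (U i : Set Y) := by
      have h0 := (IrreducibleSpace.isIrreducible_univ (U i : Scheme.{u})).image (U i).ι
        (U i).ι.continuous.continuousOn
      rwa [Set.image_univ, Scheme.Opens.range_ι] at h0
    have hsub : Z ⊆ closure (U i : Set Y) :=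
      (subset_closure_inter_of_isPreirreducible_of_isOpen hZ.1.isPreirreducible (U i).2 ⟨z, hz, hzi⟩).trans
        (closure_mono Set.inter_subset_right)
    exact ⟨i, hi, (hsub.antisymm (hZ.2 hirr.closure hsub)).symm⟩
  haveI := hfin.to_subtype
  have hopen : ∀ Z ∈ irreducibleComponents (Y : Type u), IsOpen Z := fun Z hZ =>
    Props.Components.isOpen_of_locally_finite hdom (fun y => ⟨⊤, trivial, hfin.subset fun W hW => hW.1⟩) Z hZ
  let V : irreducibleComponents (Y : Type u) → Y.Opens := fun Z => ⟨Z.1, hopen _ Z.2⟩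
  have hcov : ∀ y : Y, ∃ Z, y ∈ V Z := fun y =>
    ⟨⟨irreducibleComponent y, irreducibleComponent_mem_irreducibleComponents y⟩, mem_irreducibleComponent⟩
  let ρ : Γ(Y, ⊤) →+* ∀ Z, Γ(Y, V Z) := RingHom.pi fun Z => (Y.presheaf.map (homOfLE le_top).op).hom
  have hρ : Function.Bijective ρ := by
    refine ⟨fun a b hab => ?_, fun s => ?_⟩
    · exact TopCat.Sheaf.eq_of_locally_eq' Y.sheaf V ⊤ (fun Z => homOfLE le_top)
        (fun y _ => Opens.mem_iSup.2 (hcov y)) a b fun Z => congrFun hab Z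
    · obtain ⟨t, ht, -⟩ := TopCat.Sheaf.existsUnique_gluing' Y.sheaf V ⊤ (fun Z => homOfLE le_top)
        (fun y _ => Opens.mem_iSup.2 (hcov y)) s fun Z Z' => by
          by_cases he : Z = Z'
          · subst he; rfl
          · have hbot : V Z ⊓ V Z' = ⊥ := eq_bot_iff.2 fun y hy => he (Subtype.ext
              ((Props.Components.existsUnique_component hdom y).unique ⟨Z.2, hy.1⟩ ⟨Z'.2, hy.2⟩))
            refine TopCat.Presheaf.section_ext Y.sheaf _ _ _ fun y hy => ?_
            have hy' : y ∈ V Z ⊓ V Z' := hy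
            rw [hbot] at hy'
            exact hy'.elim
      exact ⟨t, funext ht⟩
  refine EGA4Lib.isNormalRing_of_ringEquiv (RingEquiv.ofBijective ρ hρ).symm
    (Groth.Agent.S6279.result (fun Z => (Γ(Y, V Z) : Type u)) fun Z => ?_)
  haveI : Nonempty (V Z).toScheme := Z.2.1.1.to_subtype
  haveI : IsReduced Y := by
    haveI : ∀ y : Y, _root_.IsReduced (Y.presheaf.stalk y) := fun y => haveI := hdom y; inferInstance
    exact isReduced_of_isReduced_stalk Y
  haveI : IrreducibleSpace (V Z).toScheme := Subtype.irreducibleSpace (show IsIrreducible ((V Z : Y.Opens) : Set Y) from Z.2.1)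
  haveI : IsReduced (V Z).toScheme := isReduced_of_isOpenImmersion (V Z).ι
  haveI : IsIntegral (V Z).toScheme := isIntegral_of_irreducibleSpace_of_isReduced _
  have hVn : Pi1.IsNormalScheme (V Z).toScheme := fun x => by
    haveI := (hY ((V Z).ι x)).1
    haveI := (hY ((V Z).ι x)).2
    let e := (asIso ((V Z).ι.stalkMap x)).commRingCatIsoToRingEquiv
    exact ⟨e.symm.toMulEquiv.isDomain, IsIntegrallyClosed.of_equiv e⟩
  haveI := Groth.Agent.S2102.result _ hVn
  haveI : Nonempty ((⊤ : (V Z).toScheme.Opens) : Type u) := ⟨⟨Classical.arbitrary _, trivial⟩⟩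
  haveI : IsDomain Γ((V Z).toScheme, ⊤) := IsIntegral.component_integral _
  exact EGA4Lib.isNormalRing_of_ringEquiv (V Z).topIso.commRingCatIsoToRingEquiv
    (GeomFieldLib.isNormalRing_of_isDomain _)

section bundle

open Groth.Agent.Props.GenLocus

variable {X : Scheme.{u}} {L : X.Modules} [L.IsQuasicoherent] {𝒜 : QCAlg X} {jL : L ⟶ 𝒜.toModule}
  (hA : IsSymAlg L 𝒜 jL)

variable (jL) in
/-- Polynomials in a generator. -/
def polyHom {W : X.Opens} (e : Γ(L, W)) : Polynomial Γ(X, W) →+* (𝒜.presheaf.obj (op W) : Type u) :=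
  Polynomial.eval₂RingHom (𝒜.str.app (op W)).hom (jL.app W e)

include hA in
lemma polyHom_bijective {W : X.Opens} (hW : IsAffineOpen W) {e : Γ(L, W)} (he : IsGen L W e) :
    Function.Bijective (polyHom jL e) := by
  let := (𝒜.str.app (op W)).hom.toAlgebra
  let ι := SymmetricAlgebra.ι Γ(X, W) Γ(L, W)
  let φ : Polynomial Γ(X, W) →ₐ[Γ(X, W)] SymmetricAlgebra Γ(X, W) Γ(L, W) := Polynomial.aeval (ι e)
  have hbas : Function.Bijective (fun a : Γ(X, W) => a • e) := by
    have := he W le_rfl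
    have hfun : sm e le_rfl = fun a : Γ(X, W) => a • e := funext fun a => by
      show a • QCoh.res L le_rfl e = a • e
      rw [QCoh.res_self]
    rwa [hfun] at this
  let b : Module.Basis Unit Γ(X, W) Γ(L, W) := Module.Basis.ofEquivFun
    ((LinearEquiv.ofBijective (LinearMap.toSpanSingleton Γ(X, W) Γ(L, W) e) hbas).symm.trans
      (LinearEquiv.funUnique Unit Γ(X, W) Γ(X, W)).symm)
  have hb : b () = e := by simp [b, LinearEquiv.funUnique]
  let ψ := (SymmetricAlgebra.equivMvPolynomial b).trans (MvPolynomial.pUnitAlgEquiv Γ(X, W))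
  have hψ : ∀ p, ψ (φ p) = p := by
    have : ψ.toAlgHom.comp φ = AlgHom.id _ _ := by
      refine Polynomial.algHom_ext ?_
      simp [φ, ψ, ι, ← hb]
    exact fun p => AlgHom.congr_fun this p
  have hφ : Function.Bijective φ := by
    rw [show (⇑φ) = ψ.symm from funext fun p => (ψ.eq_symm_apply).2 (hψ p)]
    exact ψ.symm.bijective
  have hl := SymLib.affLift_bijective hA hW
  have heq : (polyHom jL e : Polynomial Γ(X, W) → _) = SymLib.affLift jL W ∘ φ := by
    refine funext fun p => RingHom.congr_fun (Polynomial.ringHom_ext (f := polyHom jL e)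
      (g := (SymLib.affLift jL W).comp φ.toRingHom) (fun a => ?_) ?_) p
    · simp [polyHom, φ]
      exact (SymLib.affLift_algebraMap jL W a).symm
    · simp [polyHom, φ, ι]
      exact (SymLib.affLift_ι jL W e).symm
  rw [heq]
  exact hl.comp hφ

include hA in
lemma isDomain_chart {W : X.Opens} (hW : IsAffineOpen W) {e : Γ(L, W)} (he : IsGen L W e)
    [IsDomain Γ(X, W)] : IsDomain (𝒜.presheaf.obj (op W) : Type u) :=
  (RingEquiv.ofBijective _ (polyHom_bijective hA hW he)).toMulEquiv.isDomain_iff.1 inferInstance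

include hA in
lemma res_injective {W W' : X.Opens} (hW : IsAffineOpen W) (hW' : IsAffineOpen W') (h : W' ≤ W)
    {e : Γ(L, W)} (he : IsGen L W e) (hinj : Function.Injective (X.presheaf.map (homOfLE h).op).hom) :
    Function.Injective (𝒜.presheaf.map (homOfLE h).op).hom := by
  have h1 : (𝒜.presheaf.map (homOfLE h).op).hom.comp (polyHom jL e) =
      (polyHom jL (QCoh.res L h e)).comp (Polynomial.mapRingHom (X.presheaf.map (homOfLE h).op).hom) := by
    refine Polynomial.ringHom_ext (fun a => ?_) ?_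
    · rw [RingHom.comp_apply, RingHom.comp_apply, Polynomial.coe_mapRingHom, Polynomial.map_C, polyHom, polyHom,
        Polynomial.coe_eval₂RingHom, Polynomial.coe_eval₂RingHom, Polynomial.eval₂_C, Polynomial.eval₂_C]
      exact congr($(𝒜.str.naturality (homOfLE h).op).hom a).symm
    · rw [RingHom.comp_apply, RingHom.comp_apply, Polynomial.coe_mapRingHom, Polynomial.map_X, polyHom, polyHom,
        Polynomial.coe_eval₂RingHom, Polynomial.coe_eval₂RingHom, Polynomial.eval₂_X, Polynomial.eval₂_X]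
      exact (QCoh.app_res jL h e).symm
  intro a b hab
  obtain ⟨f, rfl⟩ := (polyHom_bijective hA hW he).2 a
  obtain ⟨f', rfl⟩ := (polyHom_bijective hA hW he).2 b
  exact congrArg (polyHom jL e) (Polynomial.map_injective _ hinj
    ((polyHom_bijective hA hW' (he.restrict h)).1 ((RingHom.congr_fun h1 f).symm.trans (hab.trans (RingHom.congr_fun h1 f')))))

include hA in
theorem isIntegral_bundle (hL : PicF.IsInvertible L) [IsIntegral X] : IsIntegral 𝒜.spec := by
  have hframe : ∀ (x : X) (U : X.Opens), x ∈ U → ∃ W : X.Opens, IsAffineOpen W ∧ x ∈ W ∧ W ≤ U ∧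
      ∃ e : Γ(L, W), IsGen L W e := by
    intro x U hxU
    obtain ⟨U₁, e, hxU₁, he⟩ := exists_isGen hL x
    obtain ⟨W, hW, hxW, hWU⟩ := exists_isAffineOpen_mem_and_subset (X := X) (x := x) (U := U₁ ⊓ U) ⟨hxU₁, hxU⟩
    replace hWU : W ≤ U₁ ⊓ U := hWU
    exact ⟨W, hW, hxW, hWU.trans inf_le_right, _, he.restrict (hWU.trans inf_le_left)⟩
  refine isIntegral_spec 𝒜 (fun U => (U : Set X).Nonempty ∧ ∃ e : Γ(L, U), IsGen L U e) ?_ ?_ ?_ ?_
  · intro z
    obtain ⟨W, hW, hxW, -, hg⟩ := hframe (𝒜.π z) ⊤ trivial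
    exact ⟨W, hW, ⟨⟨_, hxW⟩, hg⟩, hxW⟩
  · rintro U hU ⟨hne, e, he⟩
    have : Nonempty U.toScheme := hne.to_subtype
    exact isDomain_chart hA hU he
  · rintro U U' hU hU' ⟨hne, e, he⟩ ⟨hne', e', he'⟩
    obtain ⟨x, hx⟩ := nonempty_preirreducible_inter U.2 U'.2 hne hne'
    obtain ⟨W, hW, hxW, hWU, hg⟩ := hframe x (U ⊓ U') hx
    have : Nonempty W.toScheme := ⟨⟨x, hxW⟩⟩
    exact ⟨W, hW, ⟨⟨x, hxW⟩, hg⟩, hWU.trans inf_le_left, hWU.trans inf_le_right,
      res_injective hA hU hW _ he (map_injective_of_isIntegral X _ (H := this)),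
      res_injective hA hU' hW _ he' (map_injective_of_isIntegral X _ (H := this))⟩
  · obtain ⟨x⟩ := (inferInstance : Nonempty X)
    obtain ⟨W, hW, hxW, -, hg⟩ := hframe x ⊤ trivial
    exact ⟨W, hW, ⟨x, hxW⟩, hg⟩

include hA in
theorem normal_bundle (hL : PicF.IsInvertible L)
    (hint : ∀ x : X, ∃ U : X.Opens, x ∈ U ∧ IsIntegral (U : Scheme.{u})) (hX : Pi1.IsNormalScheme X) :
    Pi1.IsNormalScheme 𝒜.spec ∧ ∀ z : 𝒜.spec, ∃ U : 𝒜.spec.Opens, z ∈ U ∧ IsIntegral (U : Scheme.{u}) := by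
  have key : ∀ z : 𝒜.spec, ∃ (W : X.Opens) (_ : IsAffineOpen W), 𝒜.π z ∈ W ∧
      IsDomain (𝒜.presheaf.obj (op W) : Type u) ∧ IsIntegrallyClosed (𝒜.presheaf.obj (op W) : Type u) := by
    intro z
    obtain ⟨U, hxU, hU⟩ := hint (𝒜.π z)
    obtain ⟨U₁, e, hxU₁, he⟩ := exists_isGen hL (𝒜.π z)
    obtain ⟨W, hW, hxW, hWU⟩ := exists_isAffineOpen_mem_and_subset (X := X) (x := 𝒜.π z) (U := U₁ ⊓ U) ⟨hxU₁, hxU⟩
    replace hWU : W ≤ U₁ ⊓ U := hWU
    have := hU
    have : Nonempty W.toScheme := ⟨⟨_, hxW⟩⟩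
    have : IsIntegral W.toScheme := isIntegral_of_isOpenImmersion (X.homOfLE (hWU.trans inf_le_right))
    have hWn : Pi1.IsNormalScheme W.toScheme := fun x => by
      have := (hX (W.ι x)).1
      have := (hX (W.ι x)).2
      let e := (asIso (W.ι.stalkMap x)).commRingCatIsoToRingEquiv
      exact ⟨e.symm.toMulEquiv.isDomain, IsIntegrallyClosed.of_equiv e⟩
    have := Groth.Agent.S2102.result _ hWn
    have : Nonempty ((⊤ : W.toScheme.Opens) : Type u) := ⟨⟨⟨_, hxW⟩, trivial⟩⟩
    have : IsDomain Γ(W.toScheme, ⊤) := IsIntegral.component_integral _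
    let eW := W.topIso.commRingCatIsoToRingEquiv
    have : IsDomain Γ(X, W) := eW.toMulEquiv.isDomain_iff.1 inferInstance
    have : IsIntegrallyClosed Γ(X, W) := IsIntegrallyClosed.of_equiv eW
    have hg := he.restrict (hWU.trans inf_le_left)
    exact ⟨W, hW, hxW, isDomain_chart hA hW hg,
      IsIntegrallyClosed.of_equiv (RingEquiv.ofBijective _ (polyHom_bijective hA hW hg))⟩
  refine ⟨isNormal_spec 𝒜 fun z => ?_, fun z => ?_⟩
  · obtain ⟨W, hW, hz, hd, hc⟩ := key z
    exact ⟨W, hW, hz, GeomFieldLib.isNormalRing_of_isDomain _⟩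
  · obtain ⟨W, hW, hz, hd, -⟩ := key z
    refine ⟨(𝒜.ι W hW).opensRange, RelSpecLib.exists_ι_apply_eq 𝒜 z W hW hz, ?_⟩
    have : Nonempty (𝒜.ι W hW).opensRange := ⟨⟨z, RelSpecLib.exists_ι_apply_eq 𝒜 z W hW hz⟩⟩
    exact isIntegral_of_isOpenImmersion (𝒜.ι W hW).isoOpensRange.inv

end bundle

end Groth.Agent.DirImgInt65

end
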